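import Groth.Agent.Lib.FibVal4
import Groth.Agent.Lib.FibSub4
import Groth.Agent.Lib.FibDepth5.Data
import Groth.Agent.Lib.TensorMod.PullSupport
import Groth.Agent.S1391
import Groth.Agent.Lib.ModM1.Pull
import Groth.Prelude.Def_Coh

/-!
# Dimension of the support in fibres of a flat module
-/

universe u

open CategoryTheory AlgebraicGeometry Topology TopologicalSpace Limits

set_option backward.isDefEq.respectTransparency.types false

namespace Groth.Agent.SuppDim4

/-- Over an integral affine base, a point of the support of a flat quasi-coherent module generalises,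
inside the support, to a point over the generic point. -/
theorem exists_gen_mem_support {V : CommRingCat.{u}} [IsDomain V] {X : Scheme.{u}} (g : X ⟶ Spec V)
    (G : X.Modules) [Coh.IsQCoh G] (hflat : FlatMod.IsFlatOver g G) {z : X} (hz : z ∈ CohB1.support G) :
    ∃ η ∈ CohB1.support G, η ⤳ z ∧ ∀ p : Spec V, g η ⤳ p := by
  obtain ⟨U, hU, hzU, -⟩ := exists_isAffineOpen_mem_and_subset (U := (⊤ : X.Opens)) (x := z) trivial
  have hT : IsAffineOpen (⊤ : (Spec V).Opens) := isAffineOpen_top _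
  have e : U ≤ g ⁻¹ᵁ ⊤ := le_top
  let R := Γ(Spec V, ⊤)
  haveI : IsDomain R := MulEquiv.isDomain V (Scheme.ΓSpecIso V).commRingCatIsoToRingEquiv.toMulEquiv
  letI := (g.appLE ⊤ U e).hom.toAlgebra
  letI := FlatH4.secModuleOver g G ⊤ U e
  haveI : IsScalarTower R Γ(X, U) Γ(G, U) := IsScalarTower.of_algebraMap_smul fun _ _ => rfl
  haveI : Module.Flat R Γ(G, U) := FibDepth5.flat_sections g G hflat hT hU e
  let P := (hU.primeIdealOf ⟨z, hzU⟩).asIdeal
  letI := M1.stalkModule G hzU
  haveI := M1.isLocalizedModule_germ G hU hzU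
  haveI : Nontrivial (LocalizedModule P.primeCompl Γ(G, U)) :=
    haveI : Nontrivial (G.presheaf.stalk z : Type u) := not_subsingleton_iff_nontrivial.mp hz
    (IsLocalizedModule.iso P.primeCompl (M1.germₗ G hzU)).toEquiv.nontrivial
  obtain ⟨m, hm⟩ := (Module.mem_support_iff_exists_annihilator (R := Γ(X, U)) (M := Γ(G, U))
    (p := hU.primeIdealOf ⟨z, hzU⟩)).1 ‹Nontrivial (LocalizedModule P.primeCompl Γ(G, U))›
  let T : Submonoid Γ(X, U) := P.primeCompl ⊔ (nonZeroDivisors R).map (algebraMap R Γ(X, U))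
  have hdisj : Disjoint ((Submodule.span Γ(X, U) {m}).annihilator : Set Γ(X, U)) (T : Set Γ(X, U)) := by
    rw [Set.disjoint_left]
    intro a ha hat
    obtain ⟨s, hs, _, ⟨r, hr, rfl⟩, rfl⟩ := Submonoid.mem_sup.1 hat
    have h0 : r • (s • m) = 0 := by
      rw [← algebraMap_smul Γ(X, U) r (s • m), smul_smul, mul_comm]
      exact (Submodule.mem_annihilator_span_singleton _ _).1 ha
    rcases smul_eq_zero.1 h0 with h1 | h1
    · exact nonZeroDivisors.ne_zero hr h1
    · exact hs (hm ((Submodule.mem_annihilator_span_singleton _ _).2 h1))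
  obtain ⟨Q, hQ, hle, hQT⟩ := Ideal.exists_le_prime_disjoint _ T hdisj
  let q : Spec Γ(X, U) := ⟨Q, hQ⟩
  have hQP : Q ≤ P := fun a ha => by
    by_contra hne
    exact Set.disjoint_left.1 hQT ha (Submonoid.mem_sup_left hne)
  have hQR : (PrimeSpectrum.comap (algebraMap R Γ(X, U)) q).asIdeal = ⊥ := le_bot_iff.1 fun r hr => by
    rw [Ideal.mem_bot]
    by_contra hne
    exact Set.disjoint_left.1 hQT hr
      (Submonoid.mem_sup_right ⟨r, mem_nonZeroDivisors_of_ne_zero hne, rfl⟩)
  let η := hU.fromSpec q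
  have hηU : η ∈ U := hU.range_fromSpec.le ⟨_, rfl⟩
  have hqη : hU.primeIdealOf ⟨η, hηU⟩ = q :=
    hU.fromSpec.isOpenEmbedding.injective (hU.fromSpec_primeIdealOf ⟨η, hηU⟩)
  refine ⟨η, ?_, ?_, fun p => ?_⟩
  · letI := M1.stalkModule G hηU
    haveI := M1.isLocalizedModule_germ G hU hηU
    have hsupp : hU.primeIdealOf ⟨η, hηU⟩ ∈ Module.support Γ(X, U) Γ(G, U) := by
      rw [hqη]
      exact Module.mem_support_iff_exists_annihilator.2 ⟨m, hle⟩
    haveI : Nontrivial (LocalizedModule (hU.primeIdealOf ⟨η, hηU⟩).asIdeal.primeCompl Γ(G, U)) := hsupp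
    show ¬ Subsingleton (G.presheaf.stalk η)
    intro hsub
    haveI : Subsingleton (G.presheaf.stalk η : Type u) := hsub
    exact not_subsingleton (LocalizedModule (hU.primeIdealOf ⟨η, hηU⟩).asIdeal.primeCompl Γ(G, U))
      (IsLocalizedModule.iso _ (M1.germₗ G hηU)).toEquiv.subsingleton
  · have h2 : hU.fromSpec (hU.primeIdealOf ⟨z, hzU⟩) = z := hU.fromSpec_primeIdealOf ⟨z, hzU⟩
    exact h2 ▸ ((PrimeSpectrum.le_iff_specializes q _).1 hQP).map hU.fromSpec.continuous
  · have h1 : g η = hT.fromSpec (Spec.map (g.appLE ⊤ U e) q) := by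
      rw [← Scheme.Hom.comp_apply (Spec.map (g.appLE ⊤ U e)) hT.fromSpec, IsAffineOpen.SpecMap_appLE_fromSpec g hT hU e, Scheme.Hom.comp_apply]
    obtain ⟨p', rfl⟩ : ∃ p', hT.fromSpec p' = p := ⟨_, hT.fromSpec_primeIdealOf ⟨p, trivial⟩⟩
    rw [h1]
    refine ((PrimeSpectrum.le_iff_specializes _ p').1 ?_).map hT.fromSpec.continuous
    rw [← PrimeSpectrum.asIdeal_le_asIdeal]
    exact hQR.le.trans bot_le

open FibDim14 FibGen4 in
/-- For a flat module the dimension of the support in the fibres does not drop under generization. -/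
theorem exists_fibreDimAt_le {X S Z : Scheme.{u}} (f : X ⟶ S) [LocallyOfFiniteType f] (F : X.Modules)
    (hF : Coh.IsQCoh F) (hFT : CohB1.IsFT F) (hflat : FlatMod.IsFlatOver f F)
    (i : Z ⟶ X) [IsClosedImmersion i] (hi : Set.range i = CohB1.support F) (x : Z)
    {s' : S} (hs : s' ⤳ (i ≫ f) x) :
    ∃ x', (i ≫ f) x' = s' ∧ FlatMor.fibreDimAt (i ≫ f) x ≤ FlatMor.fibreDimAt (i ≫ f) x' := by
  let f' := i ≫ f
  by_cases hne : f' x = s'
  · exact ⟨x, hne, le_rfl⟩
  obtain ⟨A, h, -, hcl, hgen⟩ := S4447.result (𝟙 S) s' (f' x) hs (fun hc => hne (by simpa using hc))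
  let g := pullback.snd f' h
  have sq : IsPullback (pullback.fst f' h) g f' h := IsPullback.of_hasPullback f' h
  obtain ⟨xA, hxA, hgA, -⟩ := exists_over_rd_eq sq x (IsLocalRing.closedPoint A) hcl.symm
  obtain ⟨x₁, hx₁, he₁, hmax, hd₁⟩ := exists_isMaxFib g xA
  let γ : Spec (CommRingCat.of A) := ⟨⊥, Ideal.isPrime_bot⟩
  have hγ : h γ = s' := by
    have h1 := congrArg (fun k => k (IsLocalRing.closedPoint (S.residueField s'))) hgen
    simp only [Category.comp_id, Scheme.Hom.comp_apply, Scheme.fromSpecResidueField_apply] at h1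
    refine (congrArg h (PrimeSpectrum.ext ?_)).trans (h1.trans (Scheme.fromSpecResidueField_apply _ _))
    symm
    refine le_bot_iff.1 fun a ha => Ideal.mem_bot.2 ?_
    have : (A.subtype a) ∈ IsLocalRing.maximalIdeal (S.residueField s') := ha
    rw [IsLocalRing.maximalIdeal_eq_bot, Ideal.mem_bot] at this
    exact Subtype.ext this
  -- the module on the base change of `X`
  let hX : IsPullback (pullback.fst f h) (pullback.snd f h) f h := IsPullback.of_hasPullback f h
  let k : pullback f' h ⟶ pullback f h := hX.lift (pullback.fst f' h ≫ i) (pullback.snd f' h)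
    (by rw [Category.assoc]; exact pullback.condition)
  have hsqk : IsPullback (pullback.fst f' h) k i (pullback.fst f h) := by
    refine IsPullback.of_bot ?_ (hX.lift_fst _ _ _).symm hX
    rw [show k ≫ pullback.snd f h = g from hX.lift_snd _ _ _]
    exact sq
  haveI : IsClosedImmersion k := MorphismProperty.of_isPullback hsqk inferInstance
  let G := (Scheme.Modules.pullback (pullback.fst f h)).obj F
  haveI := hF
  haveI : Coh.IsQCoh G := M1.isQCoh_pullback _ hF
  have hsupp : CohB1.support G = pullback.fst f h ⁻¹' CohB1.support F := M2.support_pullback _ hF hFT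
  have hGflat : FlatMod.IsFlatOver (pullback.snd f h) G := fun y =>
    S1391.result f (pullback.snd f h) (pullback.fst f h) h hX F hF y (hflat _)
  have hx₁s : k x₁ ∈ CohB1.support G := by
    rw [hsupp, ← hi]
    refine ⟨pullback.fst f' h x₁, ?_⟩
    rw [← Scheme.Hom.comp_apply, ← Scheme.Hom.comp_apply, hsqk.w]
  obtain ⟨η₀, hη₀, hη₀k, hη₀g⟩ := exists_gen_mem_support (V := CommRingCat.of A) (pullback.snd f h) G hGflat hx₁s
  have hkr : Set.range k = pullback.fst f h ⁻¹' Set.range i := by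
    rw [← Scheme.Pullback.range_snd i (pullback.fst f h), ← hsqk.isoPullback_inv_snd]
    ext a
    simp only [Set.mem_range, Scheme.Hom.comp_apply]
    exact ⟨fun ⟨b, hb⟩ => ⟨hsqk.isoPullback.hom b, by rw [← Scheme.Hom.comp_apply hsqk.isoPullback.hom, Iso.hom_inv_id]; exact hb⟩,
      fun ⟨b, hb⟩ => ⟨hsqk.isoPullback.inv b, hb⟩⟩
  obtain ⟨η, hηeq⟩ : η₀ ∈ Set.range k := by rw [hkr, hi, ← hsupp]; exact hη₀
  have hη : η ⤳ x₁ := k.isEmbedding.isInducing.specializes_iff.1 (hηeq ▸ hη₀k)
  have hgη : (g η : PrimeSpectrum A).asIdeal = ⊥ := by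
    have h2 : g η = pullback.snd f h (k η) := by
      rw [← Scheme.Hom.comp_apply, show k ≫ pullback.snd f h = g from hX.lift_snd _ _ _]
    rw [h2, hηeq]
    exact le_bot_iff.1 ((PrimeSpectrum.le_iff_specializes (pullback.snd f h η₀) γ).2 (hη₀g γ))
  have hgη' : g η = γ := PrimeSpectrum.ext hgη
  refine ⟨pullback.fst f' h η, ?_, ?_⟩
  · rw [← Scheme.Hom.comp_apply, sq.w, Scheme.Hom.comp_apply, hgη', hγ]
  · obtain ⟨e1, e2⟩ := fibreDimAt_eq_of_valuationRing g hmax hη hgη
    rw [← hxA, ← fibreDimAt_baseChange sq, ← hd₁, e1, ← e2, fibreDimAt_baseChange sq]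

end Groth.Agent.SuppDim4
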